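import Groth.Prelude.Def_LefMon
import Groth.Agent.EtLimLib.Hpull

/-!
# Functoriality of the pullback on étale cohomology with constant coefficients
-/

set_option autoImplicit false
set_option backward.isDefEq.respectTransparency false
set_option backward.isDefEq.respectTransparency.types false
set_option linter.style.haveILetI false
set_option maxHeartbeats 800000

universe u

open CategoryTheory CategoryTheory.Limits AlgebraicGeometry Opposite

noncomputable section

namespace Groth.Agent.EtHmapLib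

/-- The adjoint of the identification `f⁻¹(M_Y) ≅ M_X`. -/
theorem homEquiv_pullConst {X Y : Scheme.{u}} (f : X ⟶ Y) (M : Type) [AddCommGroup M] :
    (EtCore.constAdj Y).homEquiv _ _ ((EtCoh.pullPushAdj f).homEquiv _ _ (EtCore.pullConst f M).hom) ≫
        (EtCore.pushGsecIso f).hom.app (EtCoh.const X M) =
      (EtCore.constAdj X).unit.app (AddCommGrpCat.of (ULift.{u + 1} M)) := by
  let adj₁ := ((EtCore.constAdj Y).comp (EtCoh.pullPushAdj f)).ofNatIsoRight (EtCore.pushGsecIso f)
  let C : AddCommGrpCat.{u + 1} := AddCommGrpCat.of (ULift.{u + 1} M)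
  refine Eq.trans ?_ (Adjunction.homEquiv_leftAdjointUniq_hom_app adj₁ (EtCore.constAdj X) C)
  refine Eq.symm ((Adjunction.homEquiv_ofNatIsoRight_apply _ _ _).trans ?_)
  rw [Adjunction.comp_homEquiv]
  rfl

variable {A B C : Scheme.{u}} (g : B ⟶ A) (f : C ⟶ B) (h : C ⟶ A) (w : f ≫ g = h)

theorem gsec_pushJoin (N : EtCoh.Ab C) :
    (EtCore.gsec A).map (EtLimLib.pushJoin g f h w N) ≫ (EtCore.pushGsecIso h).hom.app N =
      (EtCore.pushGsecIso g).hom.app ((EtCoh.push f).obj N) ≫ (EtCore.pushGsecIso f).hom.app N := by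
  show N.obj.map (EtLimLib.bcSpInv g f h w (EtCoh.top A)).op ≫ N.obj.map (EtCore.bcTopIso h).inv.op =
    N.obj.map ((EtCoh.bc f).map (EtCore.bcTopIso g).inv).op ≫ N.obj.map (EtCore.bcTopIso f).inv.op
  rw [← Functor.map_comp, ← Functor.map_comp, ← op_comp, ← op_comp]
  exact congrArg (fun k => N.obj.map (Quiver.Hom.op k)) ((IsTerminal.isTerminalObj (EtCoh.bc f) _
    (EtCore.bcTopIsTerminal g)).hom_ext _ _)

/-- The identifications of inverse images of constant sheaves compose. -/
theorem pullConst_trans (M : Type) [AddCommGroup M] :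
    (EtCoh.pullPushAdj h).homEquiv _ _ (EtCore.pullConst h M).hom =
      (EtCoh.pullPushAdj g).homEquiv _ _ (EtCore.pullConst g M).hom ≫
        (EtCoh.push g).map ((EtCoh.pullPushAdj f).homEquiv _ _ (EtCore.pullConst f M).hom) ≫
          EtLimLib.pushJoin g f h w _ := by
  apply ((EtCore.constAdj A).homEquiv _ _).injective
  rw [← cancel_mono ((EtCore.pushGsecIso h).hom.app (EtCoh.const C M))]
  rw [homEquiv_pullConst h M]
  erw [Adjunction.homEquiv_naturality_right]
  rw [Category.assoc, Functor.map_comp, Category.assoc]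
  erw [gsec_pushJoin g f h w (EtCoh.const C M)]
  erw [(EtCore.pushGsecIso g).hom.naturality_assoc ((EtCoh.pullPushAdj f).homEquiv _ _ (EtCore.pullConst f M).hom)]
  rw [← Category.assoc]
  erw [homEquiv_pullConst g M]
  erw [← Category.assoc, ← Adjunction.homEquiv_unit (adj := EtCore.constAdj B)]
  exact (homEquiv_pullConst f M).symm

include w in
/-- Functoriality of `EtAdic.Hmap`. -/
theorem Hmap_comp (ℓ i ν : ℕ) (hg : PreservesFiniteLimits (EtCoh.pull g)) (hf : PreservesFiniteLimits (EtCoh.pull f))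
    (hh : PreservesFiniteLimits (EtCoh.pull h)) (x : EtAdic.Hmod A ℓ i ν) :
    EtAdic.Hmap ℓ h hh i ν x = EtAdic.Hmap ℓ f hf i ν (EtAdic.Hmap ℓ g hg i ν x) :=
  haveI := hg; haveI := hf; haveI := hh
  EtLimLib.HpullThen_comp g f h w _ _ _ (pullConst_trans g f h w (ZMod (ℓ ^ ν))) i x

end Groth.Agent.EtHmapLib
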